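import Groth.Agent.Lib.CiField.Basic
import Mathlib.FieldTheory.RatFunc.AsPolynomial
import Mathlib.FieldTheory.IntermediateField.Algebraic
import Mathlib.RingTheory.AlgebraicIndependent.TranscendenceBasis
import Mathlib.RingTheory.Polynomial.Basic
import Mathlib.Algebra.MvPolynomial.Equiv
import Mathlib.Algebra.Polynomial.Basis

/-!
# `C_i` fields: transcendental and algebraic extensions
-/

open MvPolynomial

namespace GrothLib.CiField

set_option linter.style.haveILetI false

universe u v

theorem isCi_of_ringEquiv {K : Type*} [Field K] {L : Type*} [Field L] (e : K ≃+* L) {i : ℕ}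
    (hK : Curves.IsCi K i) : Curves.IsCi L i := by
  intro r n f d hf hd h
  obtain ⟨a, ha, h0⟩ := hK r n (fun ρ => MvPolynomial.map (e.symm : L →+* K) (f ρ)) d
    (fun ρ => (hf ρ).map _) hd h
  refine ⟨fun j => e (a j), fun hz => ha (funext fun j => ?_), fun ρ => ?_⟩
  · simpa using congrFun hz j
  · have h1 : (e : K →+* L) (eval a (MvPolynomial.map (e.symm : L →+* K) (f ρ))) = 0 := by
      rw [h0 ρ, map_zero]
    rwa [eval₂_comp, eval₂_map, show (e : K →+* L).comp (e.symm : L →+* K) = RingHom.id L
      from RingHom.ext fun x => e.apply_symm_apply x] at h1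

theorem isCi_of_isAlgebraic {K : Type*} [Field K] {L : Type*} [Field L] [Algebra K L]
    [Algebra.IsAlgebraic K L] {i : ℕ} (hK : Curves.IsCi K i) : Curves.IsCi L i := by
  intro r n f d hf hd h
  classical
  let S : Set L := ⋃ ρ, ((f ρ).coeffs : Set L)
  let E := IntermediateField.adjoin K S
  have : Finite S := (Set.finite_iUnion fun ρ => Finset.finite_toSet _).to_subtype
  have : FiniteDimensional K E :=
    IntermediateField.finiteDimensional_adjoin fun x _ => Algebra.IsIntegral.isIntegral x
  have hlift : ∀ ρ, ∃ g : MvPolynomial (Fin n) E, MvPolynomial.map E.val.toRingHom g = f ρ := by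
    intro ρ
    refine MvPolynomial.mem_range_map_iff_coeffs_subset.mpr fun x hx => ?_
    exact ⟨⟨x, IntermediateField.subset_adjoin K S (Set.mem_iUnion.mpr ⟨ρ, hx⟩)⟩, rfl⟩
  choose g hg using hlift
  obtain ⟨a, ha, h0⟩ := isCi_of_finiteDimensional (L := E) hK r n g d
    (fun ρ => IsHomogeneous.of_map (f := E.val.toRingHom) Subtype.val_injective
      (by rw [hg ρ]; exact hf ρ)) hd h
  refine ⟨fun j => (a j : L), fun hz => ha (funext fun j => Subtype.ext (congrFun hz j)),
    fun ρ => ?_⟩
  rw [← hg ρ, eval_map]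
  exact ((eval₂_comp E.val.toRingHom a (g ρ)).symm).trans (by rw [h0 ρ, map_zero])

theorem natDegree_eval_le {K : Type*} [CommRing K] {n : ℕ} (g : MvPolynomial (Fin n) (Polynomial K))
    {d : ℕ} (hg : g.IsHomogeneous d) {e s : ℕ} (he : ∀ m, (coeff m g).natDegree ≤ e)
    (x : Fin n → Polynomial K) (hx : ∀ j, (x j).natDegree ≤ s) :
    (eval x g).natDegree ≤ e + d * s := by
  rw [eval_eq]
  refine Polynomial.natDegree_sum_le_of_forall_le _ _ fun m hm => ?_
  refine Polynomial.natDegree_mul_le.trans (add_le_add (he m) ?_)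
  refine (Polynomial.natDegree_prod_le _ _).trans ?_
  calc ∑ i ∈ m.support, (x i ^ m i).natDegree ≤ ∑ i ∈ m.support, m i * s :=
        Finset.sum_le_sum fun i _ => Polynomial.natDegree_pow_le.trans
          (Nat.mul_le_mul_left _ (hx i))
    _ = d * s := by
        rw [← Finset.sum_mul]
        congr 1
        exact (hg.degree_eq_sum_deg_support hm).symm

/-- `K` is `C_i` implies `K(t)` is `C_{i+1}`. -/
theorem isCi_ratFunc {K : Type*} [Field K] {i : ℕ} (hK : Curves.IsCi K i) :
    Curves.IsCi (RatFunc K) (i + 1) := by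
  intro r n f d hf hd h
  classical
  -- clear denominators
  have hcl : ∀ ρ, ∃ (c : Polynomial K) (g : MvPolynomial (Fin n) (Polynomial K)), c ≠ 0 ∧
      MvPolynomial.map (algebraMap (Polynomial K) (RatFunc K)) g =
        C (algebraMap (Polynomial K) (RatFunc K) c) * f ρ := by
    intro ρ
    obtain ⟨⟨c, hc⟩, hcint⟩ := IsLocalization.exist_integer_multiples (nonZeroDivisors (Polynomial K))
      (f ρ).support (fun m => coeff m (f ρ))
    have hg : C (algebraMap (Polynomial K) (RatFunc K) c) * f ρ ∈
        Set.range (MvPolynomial.map (algebraMap (Polynomial K) (RatFunc K))) := by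
      refine MvPolynomial.mem_range_map_iff_coeffs_subset.mpr fun x hx => ?_
      obtain ⟨m, hm, rfl⟩ := MvPolynomial.mem_coeffs_iff.mp hx
      rw [coeff_C_mul]
      by_cases hmf : m ∈ (f ρ).support
      · obtain ⟨y, hy⟩ := hcint m hmf
        exact ⟨y, by rw [hy, Algebra.smul_def]⟩
      · exact ⟨0, by rw [map_zero, notMem_support_iff.mp hmf, mul_zero]⟩
    obtain ⟨g, hg⟩ := hg
    exact ⟨c, g, nonZeroDivisors.ne_zero hc, hg⟩
  choose c g hc0 hg using hcl
  have hghom : ∀ ρ, (g ρ).IsHomogeneous (d ρ) := fun ρ =>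
    IsHomogeneous.of_map (f := algebraMap (Polynomial K) (RatFunc K))
      (IsFractionRing.injective (Polynomial K) (RatFunc K)) (by rw [hg ρ]; exact (hf ρ).C_mul _)
  let e : Fin r → ℕ := fun ρ => (g ρ).support.sup fun m => (coeff m (g ρ)).natDegree
  let s : ℕ := ∑ ρ, (e ρ + 1) * d ρ ^ i
  let b : Fin (s + 1) → Polynomial K := fun l => Polynomial.X ^ (l : ℕ)
  have hb : LinearIndependent K b := by
    have := (Polynomial.basisMonomials K).linearIndependent
    rw [Polynomial.coe_basisMonomials] at this
    convert! this.comp (fun l : Fin (s + 1) => (l : ℕ)) Fin.val_injective using 1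
    funext l; simp [b, Polynomial.X_pow_eq_monomial]
  have hspan : ∀ p ∈ Submodule.span K (Set.range b), p.natDegree ≤ s := fun p hp => by
    refine Submodule.span_induction (p := fun p _ => p.natDegree ≤ s) ?_ (by simp) ?_ ?_ hp
    · rintro _ ⟨l, rfl⟩
      exact (Polynomial.natDegree_X_pow_le _).trans (Nat.le_of_lt_succ l.isLt)
    · exact fun p q _ _ hp hq => (Polynomial.natDegree_add_le p q).trans (max_le hp hq)
    · exact fun a p _ hp => (Polynomial.natDegree_smul_le a p).trans hp
  have hfin : ∀ N, Module.Finite K (Polynomial.degreeLT K N) := fun N =>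
    Module.Finite.equiv (Polynomial.degreeLTEquiv K N).symm
  obtain ⟨x, hx, h0⟩ := exists_zero_subst hK hb g d hghom hd
    (fun ρ => Polynomial.degreeLT K (e ρ + d ρ * s + 1))
    (fun ρ x hx => by
      rw [Polynomial.mem_degreeLT]
      refine lt_of_le_of_lt (Polynomial.degree_le_natDegree) ?_
      refine Nat.cast_lt.mpr (Nat.lt_succ_of_le (natDegree_eval_le (g ρ) (hghom ρ) (fun m => ?_) x
        fun j => hspan _ (hx j)))
      by_cases hm : m ∈ (g ρ).support
      · exact Finset.le_sup (f := fun m => (coeff m (g ρ)).natDegree) hm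
      · simp [notMem_support_iff.mp hm]) (by
      simp only [(Polynomial.degreeLTEquiv K _).finrank_eq, Module.finrank_fintype_fun_eq_card,
        Fintype.card_fin]
      have hsum : ∑ ρ, (e ρ + d ρ * s + 1) * d ρ ^ i = s * ∑ ρ, d ρ ^ (i + 1) + s := by
        rw [Finset.mul_sum]
        conv_rhs => arg 2; simp only [s]
        rw [← Finset.sum_add_distrib]
        exact Finset.sum_congr rfl fun ρ _ => by rw [pow_succ]; ring
      rw [hsum]
      calc s * ∑ ρ, d ρ ^ (i + 1) + s = s * (∑ ρ, d ρ ^ (i + 1) + 1) := by ring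
        _ ≤ s * n := Nat.mul_le_mul_left _ h
        _ < n * (s + 1) := by rw [mul_comm s, mul_add_one]; omega)
  refine ⟨fun j => algebraMap (Polynomial K) (RatFunc K) (x j), fun hz => hx (funext fun j =>
    IsFractionRing.injective (Polynomial K) (RatFunc K) (by simpa using congrFun hz j)),
    fun ρ => ?_⟩
  have h1 : eval (fun j => algebraMap (Polynomial K) (RatFunc K) (x j))
      (MvPolynomial.map (algebraMap (Polynomial K) (RatFunc K)) (g ρ)) = 0 := by
    rw [eval_map]
    exact ((eval₂_comp _ x (g ρ)).symm).trans (by rw [h0 ρ, map_zero])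
  rw [hg ρ, map_mul, eval_C] at h1
  exact (mul_eq_zero.mp h1).resolve_left fun h2 =>
    hc0 ρ (IsFractionRing.injective (Polynomial K) (RatFunc K) (h2.trans (map_zero _).symm))

/-- `Frac(A[X]) = Frac(A)(X)`. -/
theorem nonempty_ringEquiv_ratFunc (A : Type u) [CommRing A] [IsDomain A] :
    Nonempty (FractionRing (Polynomial A) ≃+* RatFunc (FractionRing A)) := by
  let φ : Polynomial A →+* RatFunc (FractionRing A) :=
    (algebraMap (Polynomial (FractionRing A)) (RatFunc (FractionRing A))).comp
      (Polynomial.mapRingHom (algebraMap A (FractionRing A)))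
  have hφ : Function.Injective φ :=
    (IsFractionRing.injective (Polynomial (FractionRing A)) (RatFunc (FractionRing A))).comp
      (Polynomial.map_injective _ (IsFractionRing.injective A (FractionRing A)))
  let ψ : FractionRing (Polynomial A) →+* RatFunc (FractionRing A) := IsFractionRing.lift hφ
  have hψ : ∀ p, ψ (algebraMap _ _ p) = φ p := fun p => IsFractionRing.lift_algebraMap hφ p
  refine ⟨RingEquiv.ofBijective ψ ⟨ψ.injective, fun y => ?_⟩⟩
  let S := ψ.fieldRange
  have hpoly : ∀ p : Polynomial (FractionRing A),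
      algebraMap _ (RatFunc (FractionRing A)) p ∈ S := fun p => by
    induction p using Polynomial.induction_on' with
    | add p q hp hq => rw [map_add]; exact add_mem hp hq
    | monomial n a =>
        obtain ⟨a, b, hb, rfl⟩ := IsFractionRing.div_surjective A a
        rw [← Polynomial.C_mul_X_pow_eq_monomial, map_mul, map_pow]
        have key : ∀ c : A, algebraMap _ (RatFunc (FractionRing A))
            (Polynomial.C (algebraMap A (FractionRing A) c)) ∈ S := fun c =>
          RingHom.mem_fieldRange.mpr ⟨algebraMap _ _ (Polynomial.C c), by rw [hψ]; simp [φ]⟩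
        refine mul_mem ?_ (pow_mem (RingHom.mem_fieldRange.mpr
          ⟨algebraMap _ _ Polynomial.X, by rw [hψ]; simp [φ]⟩) _)
        rw [RatFunc.algebraMap_C, map_div₀]
        exact div_mem (by simpa [RatFunc.algebraMap_C] using key a)
          (by simpa [RatFunc.algebraMap_C] using key b)
  rw [← RatFunc.num_div_denom y]
  exact div_mem (hpoly _) (hpoly _)

theorem isCi_fractionRing_mvPolynomial {k : Type u} [Field k] {m : ℕ} (hk : Curves.IsCi k m) :
    ∀ t, Curves.IsCi (FractionRing (MvPolynomial (Fin t) k)) (m + t) := by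
  intro t
  induction t with
  | zero =>
      have hs : Function.Surjective (algebraMap k (FractionRing (MvPolynomial (Fin 0) k))) :=
        fun x => by
        obtain ⟨a, b, _, rfl⟩ := IsFractionRing.div_surjective (MvPolynomial (Fin 0) k) x
        obtain ⟨a, rfl⟩ := MvPolynomial.C_surjective (Fin 0) a
        obtain ⟨b, rfl⟩ := MvPolynomial.C_surjective (Fin 0) b
        exact ⟨a / b, by
          rw [map_div₀, IsScalarTower.algebraMap_apply k (MvPolynomial (Fin 0) k),
            IsScalarTower.algebraMap_apply k (MvPolynomial (Fin 0) k)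
              (FractionRing (MvPolynomial (Fin 0) k)) b]
          rfl⟩
      exact isCi_of_ringEquiv (RingEquiv.ofBijective _ ⟨RingHom.injective _, hs⟩) hk
  | succ t ih =>
      obtain ⟨e⟩ := nonempty_ringEquiv_ratFunc (MvPolynomial (Fin t) k)
      exact isCi_of_ringEquiv (e.symm.trans
        (IsFractionRing.ringEquivOfRingEquiv (MvPolynomial.finSuccEquiv k t).toRingEquiv).symm)
        (isCi_ratFunc ih)

theorem isCi_of_isTranscendenceBasis {k : Type u} [Field k] {K : Type v} [Field K] [Algebra k K]
    {t m : ℕ} {x : Fin t → K} (hx : IsTranscendenceBasis k x) (hk : Curves.IsCi k m) :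
    Curves.IsCi K (m + t) := by
  let φ : MvPolynomial (Fin t) k →ₐ[k] K := MvPolynomial.aeval x
  have hφ : Function.Injective φ := hx.1
  let ψ : FractionRing (MvPolynomial (Fin t) k) →+* K := IsFractionRing.lift (g := φ.toRingHom) hφ
  letI := ψ.toAlgebra
  letI := φ.toRingHom.toAlgebra
  haveI : IsScalarTower (MvPolynomial (Fin t) k) (FractionRing (MvPolynomial (Fin t) k)) K :=
    .of_algebraMap_eq fun p => (IsFractionRing.lift_algebraMap hφ p).symm
  haveI : Algebra.IsAlgebraic (MvPolynomial (Fin t) k) K := by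
    haveI := hx.isAlgebraic
    refine ⟨fun y => ?_⟩
    obtain ⟨p, hp0, hp⟩ := Algebra.IsAlgebraic.isAlgebraic (R := Algebra.adjoin k (Set.range x)) y
    let ε := (AlgebraicIndependent.aevalEquiv hx.1)
    refine ⟨p.map ε.symm.toRingEquiv.toRingHom,
      (Polynomial.map_ne_zero_iff ε.symm.injective).mpr hp0, ?_⟩
    rw [Polynomial.aeval_def, Polynomial.eval₂_map, ← hp, Polynomial.aeval_def]
    congr 1
    ext z
    show φ (ε.symm z) = (z : K)
    exact (hx.1.algebraMap_aevalEquiv (ε.symm z)).symm.trans (by simp [ε])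
  haveI : Algebra.IsAlgebraic (FractionRing (MvPolynomial (Fin t) k)) K :=
    (IsFractionRing.comap_isAlgebraic_iff (A := MvPolynomial (Fin t) k)).mp inferInstance
  exact isCi_of_isAlgebraic (isCi_fractionRing_mvPolynomial hk t)

end GrothLib.CiField
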