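import Groth.Prelude.Def_Curves
import Mathlib.RingTheory.Ideal.KrullsHeightTheorem
import Mathlib.RingTheory.KrullDimension.Polynomial
import Mathlib.RingTheory.KrullDimension.Field
import Mathlib.RingTheory.Nullstellensatz
import Mathlib.RingTheory.Polynomial.Basic
import Mathlib.LinearAlgebra.Basis.VectorSpace
import Mathlib.LinearAlgebra.Matrix.Basis
import Mathlib.RingTheory.Norm.Basic

/-!
# `C_i` fields: algebraically closed fields and substitution of bases
-/

open MvPolynomial

namespace GrothLib.CiField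

variable {K : Type*} [Field K]

theorem height_ker_eval (n : ℕ) (a : Fin n → K) :
    (RingHom.ker (eval a : MvPolynomial (Fin n) K →+* K)).height =
      (RingHom.ker (eval (0 : Fin n → K) : MvPolynomial (Fin n) K →+* K)).height := by
  let e : MvPolynomial (Fin n) K ≃ₐ[K] MvPolynomial (Fin n) K :=
    AlgEquiv.ofAlgHom (MvPolynomial.aeval fun i => X i + C (a i))
      (MvPolynomial.aeval fun i => X i - C (a i))
      (MvPolynomial.algHom_ext fun i => by simp) (MvPolynomial.algHom_ext fun i => by simp)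
  have : RingHom.ker (eval a : MvPolynomial (Fin n) K →+* K) =
      (RingHom.ker (eval (0 : Fin n → K) : MvPolynomial (Fin n) K →+* K)).comap e.toRingEquiv := by
    ext p
    rw [Ideal.mem_comap, RingHom.mem_ker, RingHom.mem_ker]
    have : eval (0 : Fin n → K) (e p) = eval a p := by
      show ((MvPolynomial.aeval (0 : Fin n → K)).comp e.toAlgHom) p = MvPolynomial.aeval a p
      exact AlgHom.congr_fun (MvPolynomial.algHom_ext fun i => by simp [e]) p
    rw [← this]; rfl
  rw [this, RingEquiv.height_comap]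

/-- The origin of affine `n`-space over an algebraically closed field has height `≥ n`. -/
theorem le_height_origin [IsAlgClosed K] (n : ℕ) :
    (n : ℕ∞) ≤ (RingHom.ker (eval (0 : Fin n → K) : MvPolynomial (Fin n) K →+* K)).height := by
  have hd : ringKrullDim (MvPolynomial (Fin n) K) = n := by
    rw [MvPolynomial.ringKrullDim_of_isNoetherianRing, ringKrullDim_eq_zero_of_field]; simp
  have h : ringKrullDim (MvPolynomial (Fin n) K) ≤
      ((RingHom.ker (eval (0 : Fin n → K) : MvPolynomial (Fin n) K →+* K)).height : WithBot ℕ∞) := by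
    rw [ringKrullDim_le_iff_isMaximal_height_le]
    intro m hm
    obtain ⟨a, rfl⟩ := MvPolynomial.isMaximal_iff_eq_vanishingIdeal_singleton.mp hm
    rw [← height_ker_eval n a]
    refine le_of_eq (congrArg (fun I => ((Ideal.height I : ℕ∞) : WithBot ℕ∞)) ?_)
    ext p; simp
  rw [hd] at h
  exact_mod_cast h

/-- Fewer forms than variables have a common non-trivial zero over an algebraically closed
field. -/
theorem exists_zero_isAlgClosed [IsAlgClosed K] (r n : ℕ) (f : Fin r → MvPolynomial (Fin n) K)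
    (d : Fin r → ℕ) (hf : ∀ ρ, (f ρ).IsHomogeneous (d ρ)) (hd : ∀ ρ, 0 < d ρ) (h : r < n) :
    ∃ a : Fin n → K, a ≠ 0 ∧ ∀ ρ, eval a (f ρ) = 0 := by
  by_contra hcon
  push Not at hcon
  set I := Ideal.span (Set.range f)
  set m₀ := RingHom.ker (eval (0 : Fin n → K) : MvPolynomial (Fin n) K →+* K)
  have h0 : ∀ ρ, eval (0 : Fin n → K) (f ρ) = 0 := fun ρ => by
    rw [MvPolynomial.eval_zero]
    exact (hf ρ).coeff_eq_zero (by simpa using (hd ρ).ne)
  have hIm : I ≤ m₀ := Ideal.span_le.mpr (by rintro _ ⟨ρ, rfl⟩; exact h0 ρ)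
  have hm : m₀ ≤ I.radical := by
    rw [← MvPolynomial.vanishingIdeal_zeroLocus_eq_radical (K := K), MvPolynomial.zeroLocus_span]
    intro p hp x hx
    have : x = 0 := by
      by_contra hx0
      obtain ⟨ρ, hρ⟩ := hcon x hx0
      exact hρ (by simpa [aeval_eq_eval] using hx (f ρ) ⟨ρ, rfl⟩)
    subst this
    simpa [aeval_eq_eval, m₀] using hp
  have hm₀ : m₀.IsPrime := RingHom.ker_isPrime _
  have hmin : m₀ ∈ I.minimalPrimes :=
    ⟨⟨hm₀, hIm⟩, fun q ⟨hq, hIq⟩ _ => hm.trans (hq.radical_le_iff.mpr hIq)⟩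
  classical
  have hh : m₀.height ≤ (r : ℕ∞) := by
    refine (Ideal.height_le_card_of_mem_minimalPrimes_span_finset
      (s := Finset.univ.image f) (by simpa using hmin)).trans ?_
    exact_mod_cast Finset.card_image_le.trans (by simp)
  exact absurd ((le_height_origin n).trans hh) (by exact_mod_cast not_le.mpr h)

theorem exists_zero_fintype {i : ℕ} (hK : Curves.IsCi K i) {ι σ : Type*} [Fintype ι] [Fintype σ]
    (f : ι → MvPolynomial σ K) (d : ι → ℕ) (hf : ∀ ρ, (f ρ).IsHomogeneous (d ρ))
    (hd : ∀ ρ, 0 < d ρ) (h : ∑ ρ, d ρ ^ i < Fintype.card σ) :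
    ∃ a : σ → K, a ≠ 0 ∧ ∀ ρ, eval a (f ρ) = 0 := by
  let e := Fintype.equivFin σ
  let e' := Fintype.equivFin ι
  obtain ⟨a, ha, h0⟩ := hK _ _ (fun ρ => rename e (f (e'.symm ρ))) (fun ρ => d (e'.symm ρ))
    (fun ρ => (hf _).rename_isHomogeneous) (fun ρ => hd _)
    (by rwa [Equiv.sum_comp e'.symm (fun ρ => d ρ ^ i)])
  refine ⟨a ∘ e, fun hz => ha (funext fun j => ?_), fun ρ => ?_⟩
  · simpa using congrFun hz (e.symm j)
  · simpa [eval_rename] using h0 (e' ρ)

/-! ### Taking coordinates of the coefficients -/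

section mapCoeff

variable {R : Type*} [CommRing R] [Algebra K R] {σ : Type*}

/-- Apply a `K`-linear functional to every coefficient. -/
noncomputable def mapCoeff (c : R →ₗ[K] K) (P : MvPolynomial σ R) : MvPolynomial σ K :=
  ∑ m ∈ P.support, monomial m (c (coeff m P))

theorem eval_mapCoeff (c : R →ₗ[K] K) (P : MvPolynomial σ R) (y : σ → K) :
    eval y (mapCoeff c P) = c (eval (fun s => algebraMap K R (y s)) P) := by
  simp only [mapCoeff, map_sum, eval_monomial, Finsupp.prod]
  rw [eval_eq, map_sum]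
  refine Finset.sum_congr rfl fun m _ => ?_
  simp only [← map_pow, ← map_prod]
  rw [mul_comm (coeff m P), ← Algebra.smul_def, map_smul, smul_eq_mul, mul_comm]

theorem isHomogeneous_mapCoeff (c : R →ₗ[K] K) {P : MvPolynomial σ R} {d : ℕ}
    (h : P.IsHomogeneous d) : (mapCoeff c P).IsHomogeneous d :=
  IsHomogeneous.sum _ _ _ fun m hm => isHomogeneous_monomial _ (by
    by_contra hne
    exact mem_support_iff.mp hm (h.coeff_eq_zero hne))

variable {n : ℕ} {τ : Type*} [Fintype τ]

/-- Substitute `x_j = ∑ y_{j,l} b_l`. -/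
noncomputable def substBasis (b : τ → R) (f : MvPolynomial (Fin n) R) :
    MvPolynomial (Fin n × τ) R :=
  MvPolynomial.aeval (fun j => ∑ l, C (b l) * X (j, l)) f

omit [Algebra K R] in
theorem isHomogeneous_substBasis (b : τ → R) {f : MvPolynomial (Fin n) R} {d : ℕ}
    (h : f.IsHomogeneous d) : (substBasis b f).IsHomogeneous d := by
  simpa [substBasis] using h.aeval (fun j => ∑ l, C (b l) * X (j, l))
    fun j => IsHomogeneous.sum _ _ _ fun l _ => isHomogeneous_C_mul_X _ _

theorem eval_substBasis (b : τ → R) (f : MvPolynomial (Fin n) R) (y : Fin n × τ → K) :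
    eval (fun s => algebraMap K R (y s)) (substBasis b f) = eval (fun j => ∑ l, y (j, l) • b l) f := by
  have : (MvPolynomial.aeval (R := R) fun s => algebraMap K R (y s)).comp
      (MvPolynomial.aeval fun j => ∑ l, C (b l) * X (j, l)) =
      MvPolynomial.aeval (R := R) fun j => ∑ l, y (j, l) • b l :=
    MvPolynomial.algHom_ext fun j => by simp [Algebra.smul_def, mul_comm]
  simpa [substBasis, aeval_eq_eval] using AlgHom.congr_fun this f

/-- A system of forms over a `K`-algebra `R` has a non-trivial zero with coordinates in the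
span of `b`, once the spans `W ρ` of the possible values are small enough. -/
theorem exists_zero_subst {i : ℕ} (hK : Curves.IsCi K i) {r : ℕ} {b : τ → R}
    (hb : LinearIndependent K b) (f : Fin r → MvPolynomial (Fin n) R) (d : Fin r → ℕ)
    (hf : ∀ ρ, (f ρ).IsHomogeneous (d ρ)) (hd : ∀ ρ, 0 < d ρ)
    (W : Fin r → Submodule K R) [∀ ρ, FiniteDimensional K (W ρ)]
    (hW : ∀ ρ (x : Fin n → R), (∀ j, x j ∈ Submodule.span K (Set.range b)) → eval x (f ρ) ∈ W ρ)
    (hlt : ∑ ρ, Module.finrank K (W ρ) * d ρ ^ i < n * Fintype.card τ) :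
    ∃ x : Fin n → R, x ≠ 0 ∧ ∀ ρ, eval x (f ρ) = 0 := by
  have hproj : ∀ ρ, ∃ π : R →ₗ[K] W ρ, ∀ w : W ρ, π w = w := fun ρ => by
    obtain ⟨π, hπ⟩ := (W ρ).subtype.exists_leftInverse_of_injective (W ρ).ker_subtype
    exact ⟨π, LinearMap.congr_fun hπ⟩
  choose π hπ using hproj
  let c : ∀ ρ, Fin (Module.finrank K (W ρ)) → R →ₗ[K] K := fun ρ q =>
    ((Module.finBasis K (W ρ)).coord q).comp (π ρ)
  obtain ⟨y, hy, h0⟩ := exists_zero_fintype hK
    (fun s : Σ ρ, Fin (Module.finrank K (W ρ)) => mapCoeff (c s.1 s.2) (substBasis b (f s.1)))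
    (fun s => d s.1) (fun s => isHomogeneous_mapCoeff _ (isHomogeneous_substBasis b (hf s.1)))
    (fun s => hd s.1) (by simpa [Fintype.sum_sigma] using hlt)
  refine ⟨fun j => ∑ l, y (j, l) • b l, fun hz => hy (funext fun s => ?_), fun ρ => ?_⟩
  · exact Fintype.linearIndependent_iff.mp hb (fun l => y (s.1, l)) (congrFun hz s.1) s.2
  · have hmem : eval (fun j => ∑ l, y (j, l) • b l) (f ρ) ∈ W ρ := hW ρ _ fun j =>
      Submodule.sum_mem _ fun l _ => Submodule.smul_mem _ _ (Submodule.subset_span ⟨l, rfl⟩)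
    have h1 : (⟨_, hmem⟩ : W ρ) = 0 := by
      refine (Module.finBasis K (W ρ)).ext_elem fun q => ?_
      have h2 := h0 ⟨ρ, q⟩
      simp only [eval_mapCoeff, eval_substBasis, c, LinearMap.comp_apply,
        Module.Basis.coord_apply] at h2
      rw [hπ ρ ⟨_, hmem⟩] at h2
      simpa using h2
    exact congrArg Subtype.val h1

end mapCoeff

theorem isCi_of_finiteDimensional {L : Type*} [Field L] [Algebra K L] [FiniteDimensional K L]
    {i : ℕ} (hK : Curves.IsCi K i) : Curves.IsCi L i := by
  intro r n f d hf hd h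
  let b := Module.finBasis K L
  refine exists_zero_subst hK b.linearIndependent f d hf hd (fun _ => ⊤)
    (fun _ _ _ => Submodule.mem_top) ?_
  simp only [finrank_top, Fintype.card_fin, ← Finset.mul_sum]
  rw [mul_comm n]
  exact mul_lt_mul_of_pos_left h Module.finrank_pos

theorem isCr_one_of_finiteDimensional {L : Type*} [Field L] [Algebra K L] [FiniteDimensional K L]
    (hK : Curves.IsCr K 1) : Curves.IsCr L 1 := by
  intro n d f hf hd h
  set m := Module.finrank K L
  let b : Module.Basis (Fin m) K L := Module.finBasis K L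
  let M : Fin m → Fin m → MvPolynomial (Fin n × Fin m) K := fun j l =>
    mapCoeff ((Matrix.entryLinearMap K K j l).comp (Algebra.leftMulMatrix b).toLinearMap)
      (substBasis b f)
  let Nm : MvPolynomial (Fin n × Fin m) K := (Matrix.of M).det
  have hN : Nm.IsHomogeneous (m * d) := by
    simp only [Nm, Matrix.det_apply']
    refine IsHomogeneous.sum _ _ _ fun σ _ => ?_
    have hp : (∏ j, Matrix.of M (σ j) j).IsHomogeneous (m * d) := by
      simpa using IsHomogeneous.prod Finset.univ (fun j => Matrix.of M (σ j) j) (fun _ => d)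
        fun j _ => isHomogeneous_mapCoeff _ (isHomogeneous_substBasis b hf)
    rcases Int.units_eq_one_or (Equiv.Perm.sign σ) with h | h
    · simpa [h] using hp
    · simpa [h] using hp.neg
  let e := Fintype.equivFin (Fin n × Fin m)
  have hm : 0 < m := Module.finrank_pos
  obtain ⟨a, ha, h0⟩ := hK _ (m * d) (rename e Nm) hN.rename_isHomogeneous
    (Nat.mul_pos hm hd) (by
      simp only [pow_one, Fintype.card_prod, Fintype.card_fin] at h ⊢
      rw [mul_comm n]; exact mul_lt_mul_of_pos_left h hm)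
  rw [eval_rename] at h0
  refine ⟨fun j => ∑ l, (a ∘ e) (j, l) • b l, fun hz => ha (funext fun s => ?_), ?_⟩
  · obtain ⟨s, rfl⟩ := e.surjective s
    exact Fintype.linearIndependent_iff.mp b.linearIndependent (fun l => (a ∘ e) (s.1, l))
      (congrFun hz s.1) s.2
  · rw [← Algebra.norm_eq_zero_iff (R := K), Algebra.norm_eq_matrix_det b, ← h0]
    rw [RingHom.map_det]
    congr 1
    ext j l
    simp [M, eval_mapCoeff, eval_substBasis]

end GrothLib.CiField
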